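import Mathlib.AlgebraicTopology.SimplicialObject.ChainHomotopy
import Mathlib.Algebra.Homology.Opposite

set_option linter.unusedSectionVars false
set_option linter.unusedVariables false
set_option linter.unusedSimpArgs false
set_option autoImplicit false
set_option linter.style.haveILetI false
set_option maxHeartbeats 400000

noncomputable section

namespace Groth.Agent.Lib.Helper6.CoskHtpy

open CategoryTheory Opposite AlgebraicTopology SimplicialObject Simplicial

universe v₁ u₁ v₂ u₂

variable {D : Type u₁} [Category.{v₁} D] {V : Type u₂} [Category.{v₂} V] [Preadditive V]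
  (G : Dᵒᵖ ⥤ V) {K L : SimplicialObject D}

/-- The cosimplicial object attached to `K`. -/
abbrev cosObj (K : SimplicialObject D) : CosimplicialObject V := K.rightOp ⋙ G

/-- The map of cosimplicial objects induced by `f : L ⟶ K`. -/
abbrev cosMap (f : L ⟶ K) : cosObj G K ⟶ cosObj G L :=
  Functor.whiskerRight (NatTrans.rightOp f) G

/-- The simplicial object of `Vᵒᵖ` attached to `K`. -/
abbrev sOp (K : SimplicialObject D) : SimplicialObject Vᵒᵖ := K ⋙ G.rightOp

/-- The induced map of simplicial objects of `Vᵒᵖ`. -/
abbrev sOpMap (f : L ⟶ K) : sOp G L ⟶ sOp G K :=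
  ((SimplicialObject.whiskering D Vᵒᵖ).obj G.rightOp).map f

lemma d_eq (K : SimplicialObject D) (n : ℕ) :
    ((alternatingCofaceMapComplex V).obj (cosObj G K)).d n (n + 1) =
      (((alternatingFaceMapComplex Vᵒᵖ).obj (sOp G K)).d (n + 1) n).unop := by
  rw [alternatingFaceMapComplex_obj_d]
  change (AlternatingCofaceMapComplex.obj (cosObj G K)).d n (n + 1) = _
  refine Eq.trans (CochainComplex.of_d (fun n => (cosObj G K).obj ⦋n⦌)
    (AlternatingCofaceMapComplex.objD (cosObj G K)) n) ?_
  simp only [AlternatingCofaceMapComplex.objD, AlternatingFaceMapComplex.objD,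
    unop_sum, unop_zsmul]
  rfl

variable {a b : L ⟶ K}

/-- The chain homotopy in `Vᵒᵖ`. -/
abbrev chOp (H : SimplicialObject.Homotopy a b) :
    _root_.Homotopy ((alternatingFaceMapComplex Vᵒᵖ).map (sOpMap G a))
      ((alternatingFaceMapComplex Vᵒᵖ).map (sOpMap G b)) :=
  (H.whiskerRight G.rightOp).toChainHomotopy

/-- The cochain homotopy induced by a simplicial homotopy. -/
def coHomotopy (H : SimplicialObject.Homotopy a b) :
    _root_.Homotopy ((alternatingCofaceMapComplex V).map (cosMap G a))
      ((alternatingCofaceMapComplex V).map (cosMap G b)) where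
  hom i j := ((chOp G H).hom j i).unop
  zero i j hij := by
    have : (chOp G H).hom j i = 0 := (chOp G H).zero j i hij
    rw [this, Limits.unop_zero]
    rfl
  comm n := by
    cases n with
    | zero =>
      rw [Homotopy.prevD_zero_cochainComplex, Homotopy.dNext_cochainComplex, add_zero]
      have h := (chOp G H).comm 0
      rw [Homotopy.dNext_zero_chainComplex, Homotopy.prevD_chainComplex, zero_add] at h
      have h' := congrArg Quiver.Hom.unop h
      rw [unop_add, unop_comp] at h'
      rw [d_eq]
      exact h'
    | succ n =>
      rw [Homotopy.prevD_succ_cochainComplex, Homotopy.dNext_cochainComplex]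
      have h := (chOp G H).comm (n + 1)
      rw [Homotopy.dNext_succ_chainComplex, Homotopy.prevD_chainComplex] at h
      have h' := congrArg Quiver.Hom.unop h
      rw [unop_add, unop_add, unop_comp, unop_comp] at h'
      rw [d_eq, d_eq, add_comm (_ ≫ _) (_ ≫ _)]
      exact h'

theorem homologyMap_eq [CategoryWithHomology V] (H : SimplicialObject.Homotopy a b) (p : ℕ) :
    HomologicalComplex.homologyMap ((alternatingCofaceMapComplex V).map (cosMap G a)) p =
      HomologicalComplex.homologyMap ((alternatingCofaceMapComplex V).map (cosMap G b)) p :=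
  (coHomotopy G H).homologyMap_eq p

end Groth.Agent.Lib.Helper6.CoskHtpy
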