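import Groth.Agent.Lib.Helper6.CoskHtpy.Path
import Groth.Agent.Lib.Helper6.CoskHtpy.CoHtpy
import Mathlib.CategoryTheory.Limits.FormalCoproducts.Cech

set_option linter.unusedSectionVars false
set_option linter.unusedVariables false
set_option linter.unusedSimpArgs false
set_option autoImplicit false
set_option linter.style.haveILetI false
set_option maxHeartbeats 400000

noncomputable section

namespace Groth.Agent.Lib.Helper6.CoskHtpy

open CategoryTheory Limits SimplexCategory Simplicial Opposite FormalCoproduct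

universe w v u

variable {C : Type u} [Category.{v} C] [HasFiniteProducts C] {U V : FormalCoproduct.{w} C}

lemma powerMap_π (f : U ⟶ V) (α : Type) [HasProductsOfShape α C] (a : α) :
    powerMap f α ≫ V.powerπ a = U.powerπ a ≫ f := by
  ext i
  · rfl
  · change ((Limits.Pi.map fun a => f.φ (i a)) ≫ Pi.π _ a) ≫ 𝟙 _ = Pi.π _ a ≫ f.φ (i a)
    rw [Category.comp_id]
    exact Pi.map_π _ _

variable (f g : U ⟶ V)

/-- Pick `f` at `0` and `g` at `1`. -/
def pick (t : Fin 2) : U ⟶ V := if t = 0 then f else g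

/-- The map `H γ` for Cech objects. -/
def Hc (Δ : SimplexCategory) (γ : Δ ⟶ ⦋1⦌) : U.power (ToType Δ) ⟶ V.power (ToType Δ) :=
  Fan.IsLimit.lift (V.isLimitPowerFan (ToType Δ))
    (fun a => U.powerπ a ≫ pick f g (γ.toOrderHom a))

lemma Hc_π (Δ : SimplexCategory) (γ : Δ ⟶ ⦋1⦌) (a : ToType Δ) :
    Hc f g Δ γ ≫ V.powerπ a = U.powerπ a ≫ pick f g (γ.toOrderHom a) :=
  Fan.IsLimit.fac (V.isLimitPowerFan (ToType Δ)) _ a

lemma power_hom_ext {T : FormalCoproduct.{w} C} (α : Type) [HasProductsOfShape α C]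
    (p q : T ⟶ V.power α) (h : ∀ a, p ≫ V.powerπ a = q ≫ V.powerπ a) : p = q :=
  Fan.IsLimit.hom_ext (V.isLimitPowerFan α) p q h

/-- The path homotopy between the Cech maps of `f` and `g`. -/
def cechPath : PathHomotopy (cechFunctor.map f) (cechFunctor.map g) where
  H Δ γ := Hc f g Δ γ
  nat {Δ Δ'} θ γ := by
    apply power_hom_ext
    intro a
    change (Hc f g Δ γ ≫ V.mapPower θ.toOrderHom.toFun) ≫ V.powerπ a =
      (U.mapPower θ.toOrderHom.toFun ≫ Hc f g Δ' (θ ≫ γ)) ≫ V.powerπ a
    rw [Category.assoc, mapPower_π, Hc_π, Category.assoc, Hc_π, mapPower_π_assoc]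
    rfl
  H_zero Δ := by
    apply power_hom_ext
    intro a
    change Hc f g Δ _ ≫ V.powerπ a = powerMap f _ ≫ V.powerπ a
    rw [Hc_π, powerMap_π]
    rfl
  H_one Δ := by
    apply power_hom_ext
    intro a
    change Hc f g Δ _ ≫ V.powerπ a = powerMap g _ ≫ V.powerπ a
    rw [Hc_π, powerMap_π]
    rfl

/-- The simplicial homotopy between the Cech maps of `f` and `g`. -/
def cechHomotopy : SimplicialObject.Homotopy (cechFunctor.map f) (cechFunctor.map g) :=
  (cechPath f g).toHomotopy

end Groth.Agent.Lib.Helper6.CoskHtpy
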