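import Mathlib.AlgebraicTopology.SimplicialObject.Coskeletal
import Mathlib.CategoryTheory.Functor.KanExtension.Pointwise
import Mathlib.CategoryTheory.Limits.Shapes.FiniteLimits
import Mathlib.CategoryTheory.FinCategory.Basic
import Mathlib.Data.Finite.Sigma

set_option linter.unusedSectionVars false
set_option linter.unusedVariables false
set_option linter.unusedSimpArgs false
set_option autoImplicit false
set_option linter.style.haveILetI false
set_option maxHeartbeats 400000

noncomputable section

namespace Groth.Agent.Lib.Helper6.CoskHtpy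

open CategoryTheory Limits SimplexCategory Simplicial Opposite

universe v u

instance finiteTruncated (n : ℕ) : Finite (SimplexCategory.Truncated n) :=
  Finite.of_injective
    (fun a : SimplexCategory.Truncated n => (⟨a.obj.len, Nat.lt_succ_of_le a.property⟩ : Fin (n + 1)))
    (by
      intro a b h
      have h' : a.obj.len = b.obj.len := congrArg Fin.val h
      exact ObjectProperty.FullSubcategory.ext (SimplexCategory.ext h'))

instance finiteTruncatedOp (n : ℕ) : Finite (SimplexCategory.Truncated n)ᵒᵖ :=
  Finite.of_injective (fun a => a.unop) (fun a b h => Opposite.unop_injective h)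

instance finiteHomOp (a b : SimplexCategoryᵒᵖ) : Finite (a ⟶ b) :=
  Finite.of_injective (fun f => f.unop) (fun f g h => Quiver.Hom.unop_inj h)

instance finiteHomTruncated (n : ℕ) (a b : SimplexCategory.Truncated n) : Finite (a ⟶ b) :=
  Finite.of_injective (fun f => f.hom) (fun f g h => InducedCategory.hom_ext h)

instance finiteHomTruncatedOp (n : ℕ) (a b : (SimplexCategory.Truncated n)ᵒᵖ) : Finite (a ⟶ b) :=
  Finite.of_injective (fun f => f.unop) (fun f g h => Quiver.Hom.unop_inj h)

instance finiteSA (n : ℕ) (Δ : SimplexCategoryᵒᵖ) :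
    Finite (StructuredArrow Δ (SimplexCategory.Truncated.inclusion n).op) :=
  Finite.of_injective
    (fun A : StructuredArrow Δ (SimplexCategory.Truncated.inclusion n).op =>
      (⟨A.right, A.hom⟩ : Σ b : (SimplexCategory.Truncated n)ᵒᵖ,
        (Δ ⟶ (SimplexCategory.Truncated.inclusion n).op.obj b)))
    (by
      intro A B h
      obtain ⟨a, φ, rfl⟩ := A.mk_surjective
      obtain ⟨b, ψ, rfl⟩ := B.mk_surjective
      simp only [StructuredArrow.mk_right, StructuredArrow.mk_hom_eq_self, Sigma.mk.injEq] at h
      obtain ⟨rfl, h2⟩ := h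
      rw [eq_of_heq h2])

instance finiteSAHom (n : ℕ) (Δ : SimplexCategoryᵒᵖ)
    (A B : StructuredArrow Δ (SimplexCategory.Truncated.inclusion n).op) : Finite (A ⟶ B) :=
  Finite.of_injective (fun f => f.right) (fun f g h => StructuredArrow.ext f g h)

instance finCategorySA (n : ℕ) (Δ : SimplexCategoryᵒᵖ) :
    FinCategory (StructuredArrow Δ (SimplexCategory.Truncated.inclusion n).op) where
  fintypeObj := Fintype.ofFinite _
  fintypeHom _ _ := Fintype.ofFinite _

variable {E : Type u} [Category.{v} E] [HasFiniteLimits E]

instance hasPointwise (n : ℕ) (F : (SimplexCategory.Truncated n)ᵒᵖ ⥤ E) :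
    (SimplexCategory.Truncated.inclusion n).op.HasPointwiseRightKanExtension F :=
  fun Δ => inferInstance

end Groth.Agent.Lib.Helper6.CoskHtpy
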