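import Groth.Agent.Lib.Helper6.CoskHtpy.Path
import Groth.Agent.Lib.Helper6.CoskHtpy.Fin

set_option linter.unusedSectionVars false
set_option linter.unusedVariables false
set_option linter.unusedSimpArgs false
set_option autoImplicit false
set_option linter.style.haveILetI false
set_option maxHeartbeats 400000

noncomputable section

namespace Groth.Agent.Lib.Helper6.CoskHtpy

open CategoryTheory Limits SimplexCategory Simplicial Opposite SimplicialObject Functor

universe v u

variable {E : Type u} [Category.{v} E]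

section Sel

variable {X X' : SimplicialObject E}

open Classical in
/-- Select `g` on the constant simplex `1` and `f` elsewhere. -/
def sel (f g : X ⟶ X') {Δ' : SimplexCategory} (c : Δ' ⟶ ⦋1⦌) : X ⟶ X' :=
  if c = SimplexCategory.const Δ' ⦋1⦌ 1 then g else f

lemma comp_const {Δ₁ Δ₂ : SimplexCategory} (τ : Δ₂ ⟶ Δ₁) (i : Fin 2) :
    τ ≫ SimplexCategory.const Δ₁ ⦋1⦌ i = SimplexCategory.const Δ₂ ⦋1⦌ i := by
  apply SimplexCategory.Hom.ext
  apply OrderHom.ext
  funext k
  rfl

lemma const_zero_ne_one (Δ : SimplexCategory) :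
    SimplexCategory.const Δ ⦋1⦌ 0 ≠ SimplexCategory.const Δ ⦋1⦌ 1 := by
  intro h
  have := SimplexCategory.congr_toOrderHom_apply h 0
  simp at this

lemma sel_zero (f g : X ⟶ X') {Δ₁ Δ₂ : SimplexCategory} (τ : Δ₂ ⟶ Δ₁) :
    sel f g (τ ≫ SimplexCategory.const Δ₁ ⦋1⦌ 0) = f := by
  rw [comp_const, sel, if_neg (const_zero_ne_one Δ₂)]

lemma sel_one (f g : X ⟶ X') {Δ₁ Δ₂ : SimplexCategory} (τ : Δ₂ ⟶ Δ₁) :
    sel f g (τ ≫ SimplexCategory.const Δ₁ ⦋1⦌ 1) = g := by
  rw [comp_const, sel, if_pos rfl]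

lemma sel_comp_aux (n : ℕ) (f g : X ⟶ X')
    (hfg : ∀ p : ℕ, p < n → f.app (op ⦋p⦌) = g.app (op ⦋p⦌))
    {Δ₁ Δ₂ : SimplexCategory} (h₁ : Δ₁.len ≤ n) (τ : Δ₂ ⟶ Δ₁) (c : Δ₁ ⟶ ⦋1⦌) :
    X.map τ.op ≫ (sel f g c).app (op Δ₂) = X.map τ.op ≫ (sel f g (τ ≫ c)).app (op Δ₂) := by
  by_cases hc : c = SimplexCategory.const Δ₁ ⦋1⦌ 1
  · subst hc
    rw [comp_const]
    simp only [sel, if_pos]
  · by_cases hc' : τ ≫ c = SimplexCategory.const Δ₂ ⦋1⦌ 1
    · have hns : ¬ Function.Surjective τ.toOrderHom := by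
        intro hs
        apply hc
        apply SimplexCategory.Hom.ext
        apply OrderHom.ext
        funext k
        obtain ⟨k', rfl⟩ := hs k
        exact SimplexCategory.congr_toOrderHom_apply hc' k'
      obtain ⟨q, rfl⟩ : ∃ q, Δ₁ = ⦋q⦌ := ⟨Δ₁.len, rfl⟩
      cases q with
      | zero =>
        exfalso
        apply hns
        intro k
        exact ⟨0, Subsingleton.elim (α := Fin 1) _ _⟩
      | succ q =>
        obtain ⟨i, τ', rfl⟩ := SimplexCategory.eq_comp_δ_of_not_surjective τ hns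
        have hq : q < n := h₁
        rw [sel, if_neg hc, sel, if_pos hc', op_comp, X.map_comp, Category.assoc, Category.assoc]
        congr 1
        rw [f.naturality, g.naturality, hfg q hq]
    · rw [sel, if_neg hc, sel, if_neg hc']

lemma sel_comp (n : ℕ) (f g : X ⟶ X')
    (hfg : ∀ p : ℕ, p < n → f.app (op ⦋p⦌) = g.app (op ⦋p⦌))
    {D₁ D₂ : SimplexCategoryᵒᵖ} (h₁ : D₁.unop.len ≤ n) (τ : D₁ ⟶ D₂) (c : D₁.unop ⟶ ⦋1⦌) :
    X.map τ ≫ (sel f g c).app D₂ = X.map τ ≫ (sel f g (τ.unop ≫ c)).app D₂ :=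
  sel_comp_aux n f g hfg h₁ τ.unop c

end Sel

variable [HasFiniteLimits E] (n : ℕ)
  [∀ (F : (SimplexCategory.Truncated n)ᵒᵖ ⥤ E),
    (SimplexCategory.Truncated.inclusion n).op.HasRightKanExtension F]

/-- The inclusion functor (opposite). -/
abbrev Lf := (SimplexCategory.Truncated.inclusion n).op

/-- The counit of the coskeleton. -/
abbrev eps (X : SimplicialObject E) : Lf n ⋙ (cosk n).obj X ⟶ Lf n ⋙ X :=
  (coskAdj n).counit.app ((truncation n).obj X)

instance isRKE (X : SimplicialObject E) :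
    ((cosk n).obj X).IsRightKanExtension (eps n X) :=
  inferInstanceAs (((cosk n).obj X).IsRightKanExtension
    ((coskAdj n).counit.app ((truncation n).obj X)))

/-- The coskeleton is a pointwise right Kan extension. -/
def ptwise (X : SimplicialObject E) :
    (RightExtension.mk _ (eps n X)).IsPointwiseRightKanExtension :=
  isPointwiseRightKanExtensionOfIsRightKanExtension ((cosk n).obj X) (eps n X)

/-- Projections of the coskeleton. -/
def pr (X : SimplicialObject E) {Δ : SimplexCategoryᵒᵖ} (A : StructuredArrow Δ (Lf n)) :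
    ((cosk n).obj X).obj Δ ⟶ X.obj ((Lf n).obj A.right) :=
  ((cosk n).obj X).map A.hom ≫ (eps n X).app A.right

lemma pr_hom_ext (X : SimplicialObject E) {Δ : SimplexCategoryᵒᵖ} {T : E}
    {a b : T ⟶ ((cosk n).obj X).obj Δ}
    (h : ∀ A : StructuredArrow Δ (Lf n), a ≫ pr n X A = b ≫ pr n X A) : a = b :=
  (ptwise n X Δ).hom_ext (fun A => h A)

lemma eps_naturality {X X' : SimplicialObject E} (f : X ⟶ X')
    (b : (SimplexCategory.Truncated n)ᵒᵖ) :
    ((cosk n).map f).app ((Lf n).obj b) ≫ (eps n X').app b =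
      (eps n X).app b ≫ f.app ((Lf n).obj b) := by
  have := (coskAdj n).counit.naturality ((truncation n).map f)
  exact congr_app this b

lemma cosk_map_pr {X X' : SimplicialObject E} (f : X ⟶ X') {Δ : SimplexCategoryᵒᵖ}
    (A : StructuredArrow Δ (Lf n)) :
    ((cosk n).map f).app Δ ≫ pr n X' A = pr n X A ≫ f.app ((Lf n).obj A.right) := by
  unfold pr
  rw [← Category.assoc, ← ((cosk n).map f).naturality, Category.assoc, eps_naturality,
    Category.assoc]

lemma map_pr (X : SimplicialObject E) {Δ Δ' : SimplexCategoryᵒᵖ} (θ : Δ ⟶ Δ')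
    (A : StructuredArrow Δ' (Lf n)) :
    ((cosk n).obj X).map θ ≫ pr n X A =
      pr n X (StructuredArrow.mk (θ ≫ A.hom) : StructuredArrow Δ (Lf n)) := by
  unfold pr
  rw [← Category.assoc, ← Functor.map_comp]
  rfl

variable {X X' : SimplicialObject E} (f g : X ⟶ X')

/-- The cone defining `H γ`. -/
def coneH (hfg : ∀ p : ℕ, p < n → f.app (op ⦋p⦌) = g.app (op ⦋p⦌))
    (Δ : SimplexCategory) (γ : Δ ⟶ ⦋1⦌) :
    Cone (StructuredArrow.proj (op Δ) (Lf n) ⋙ (Lf n ⋙ X')) where
  pt := ((cosk n).obj X).obj (op Δ)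
  π :=
    { app := fun A => pr n X A ≫ (sel f g (A.hom.unop ≫ γ)).app ((Lf n).obj A.right)
      naturality := fun A B u => by
        have hw : A.hom ≫ (Lf n).map u.right = B.hom := StructuredArrow.w u
        have hA : (A.right.unop.obj).len ≤ n := A.right.unop.property
        have e1 := sel_comp n f g hfg (D₁ := (Lf n).obj A.right) (D₂ := (Lf n).obj B.right) hA
          ((Lf n).map u.right) (A.hom.unop ≫ γ)
        have e2 : ((Lf n).map u.right).unop ≫ A.hom.unop ≫ γ = B.hom.unop ≫ γ := by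
          rw [← Category.assoc, ← unop_comp, hw]
        rw [e2] at e1
        have e3 := (eps n X).naturality u.right
        dsimp only [Functor.comp_map] at e3
        change 𝟙 _ ≫ (pr n X B ≫ (sel f g (B.hom.unop ≫ γ)).app ((Lf n).obj B.right)) =
          (pr n X A ≫ (sel f g (A.hom.unop ≫ γ)).app ((Lf n).obj A.right)) ≫
            X'.map ((Lf n).map u.right)
        rw [Category.id_comp, Category.assoc, ← (sel f g (A.hom.unop ≫ γ)).naturality, e1]
        unfold pr
        rw [show ((cosk n).obj X).map B.hom =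
          ((cosk n).obj X).map A.hom ≫ ((cosk n).obj X).map ((Lf n).map u.right) by
            rw [← Functor.map_comp, hw]]
        simp only [Category.assoc]
        congr 1
        rw [← Category.assoc, e3, Category.assoc] }

/-- The map `H γ`. -/
def Hmap (hfg : ∀ p : ℕ, p < n → f.app (op ⦋p⦌) = g.app (op ⦋p⦌))
    (Δ : SimplexCategory) (γ : Δ ⟶ ⦋1⦌) :
    ((cosk n).obj X).obj (op Δ) ⟶ ((cosk n).obj X').obj (op Δ) :=
  (ptwise n X' (op Δ)).lift (coneH n f g hfg Δ γ)

lemma Hmap_pr (hfg : ∀ p : ℕ, p < n → f.app (op ⦋p⦌) = g.app (op ⦋p⦌))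
    (Δ : SimplexCategory) (γ : Δ ⟶ ⦋1⦌) (A : StructuredArrow (op Δ) (Lf n)) :
    Hmap n f g hfg Δ γ ≫ pr n X' A =
      pr n X A ≫ (sel f g (A.hom.unop ≫ γ)).app ((Lf n).obj A.right) :=
  (ptwise n X' (op Δ)).fac (coneH n f g hfg Δ γ) A

/-- The path homotopy between `cosk f` and `cosk g`. -/
def pathH (hfg : ∀ p : ℕ, p < n → f.app (op ⦋p⦌) = g.app (op ⦋p⦌)) :
    PathHomotopy ((cosk n).map f) ((cosk n).map g) where
  H Δ γ := Hmap n f g hfg Δ γ
  nat {Δ Δ'} θ γ := by
    apply pr_hom_ext n X'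
    intro A
    rw [Category.assoc, map_pr, Hmap_pr, Category.assoc, Hmap_pr, ← Category.assoc, map_pr]
    rfl
  H_zero Δ := by
    apply pr_hom_ext n X'
    intro A
    rw [Hmap_pr, sel_zero, cosk_map_pr]
  H_one Δ := by
    apply pr_hom_ext n X'
    intro A
    rw [Hmap_pr, sel_one, cosk_map_pr]

theorem cosk_homotopy (hfg : ∀ p : ℕ, p < n → f.app (op ⦋p⦌) = g.app (op ⦋p⦌)) :
    Nonempty (SimplicialObject.Homotopy ((cosk n).map f) ((cosk n).map g)) :=
  ⟨(pathH n f g hfg).toHomotopy⟩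

end Groth.Agent.Lib.Helper6.CoskHtpy
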