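import Mathlib.AlgebraicTopology.SimplicialObject.Homotopy

set_option linter.unusedSectionVars false
set_option linter.unusedVariables false
set_option linter.unusedSimpArgs false
set_option autoImplicit false
set_option linter.style.haveILetI false
set_option maxHeartbeats 400000

noncomputable section

namespace Groth.Agent.Lib.Helper6.CoskHtpy

open CategoryTheory SimplexCategory Simplicial Opposite

universe v u

/-- The map `⦋m+1⦌ ⟶ ⦋1⦌` sending `j ≤ i` to `0` and `j > i` to `1`. -/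
def alpha {m : ℕ} (i : Fin (m + 1)) : ⦋m + 1⦌ ⟶ ⦋1⦌ :=
  SimplexCategory.mkHom ⟨fun j => if j ≤ i.castSucc then 0 else 1, by
    intro a b hab
    dsimp only
    split_ifs with h1 h2 h2
    · exact le_rfl
    · exact Fin.zero_le _
    · exact absurd (hab.trans h2) h1
    · exact le_rfl⟩

lemma alpha_apply {m : ℕ} (i : Fin (m + 1)) (j : Fin (m + 2)) :
    (alpha i).toOrderHom j = if j ≤ i.castSucc then 0 else 1 := rfl

lemma alpha_eq_zero_iff {m : ℕ} (i : Fin (m + 1)) (j : Fin (m + 2)) :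
    (alpha i).toOrderHom j = 0 ↔ j ≤ i.castSucc := by
  rw [alpha_apply]
  constructor
  · intro h
    by_contra hc
    rw [if_neg hc] at h
    exact absurd h (by decide)
  · intro h
    rw [if_pos h]

lemma hom_one_ext {Δ : SimplexCategory} (φ ψ : Δ ⟶ ⦋1⦌)
    (h : ∀ k, φ.toOrderHom k = 0 ↔ ψ.toOrderHom k = 0) : φ = ψ := by
  apply SimplexCategory.Hom.ext
  apply OrderHom.ext
  funext k
  have hk := h k
  have key : ∀ a b : Fin 2, (a = 0 ↔ b = 0) → a = b := by decide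
  exact key _ _ hk

lemma comp_alpha_eq_zero_iff {Δ : SimplexCategory} {m : ℕ} (θ : Δ ⟶ ⦋m + 1⦌) (i : Fin (m + 1))
    (k : Fin (Δ.len + 1)) :
    (θ ≫ alpha i).toOrderHom k = 0 ↔ θ.toOrderHom k ≤ i.castSucc := by
  rw [SimplexCategory.comp_toOrderHom]
  exact alpha_eq_zero_iff i _

lemma δ_apply {n : ℕ} (i : Fin (n + 2)) (k : Fin (n + 1)) :
    (SimplexCategory.δ i).toOrderHom k = i.succAbove k := rfl

lemma σ_apply {n : ℕ} (i : Fin (n + 1)) (k : Fin (n + 2)) :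
    (SimplexCategory.σ i).toOrderHom k = i.predAbove k := rfl

lemma δ_zero_alpha (m : ℕ) :
    SimplexCategory.δ (0 : Fin (m + 2)) ≫ alpha (0 : Fin (m + 1)) =
      SimplexCategory.const ⦋m⦌ ⦋1⦌ 1 := by
  apply hom_one_ext
  intro k
  rw [comp_alpha_eq_zero_iff, δ_apply]
  simp [Fin.le_def]

lemma δ_last_alpha (m : ℕ) :
    SimplexCategory.δ (Fin.last (m + 1)) ≫ alpha (Fin.last m) =
      SimplexCategory.const ⦋m⦌ ⦋1⦌ 0 := by
  apply hom_one_ext
  intro k
  rw [comp_alpha_eq_zero_iff, δ_apply]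
  simp [Fin.le_def]
  omega

lemma δ_castSucc_alpha_succ {n : ℕ} (i : Fin (n + 2)) (j : Fin (n + 1)) (hij : i ≤ j.castSucc) :
    SimplexCategory.δ i.castSucc ≫ alpha j.succ = alpha j := by
  apply hom_one_ext
  intro k
  rw [comp_alpha_eq_zero_iff, alpha_eq_zero_iff, δ_apply]
  rcases i with ⟨i, hi⟩
  rcases j with ⟨j, hj⟩
  rcases k with ⟨k, hk⟩
  simp only [Fin.succAbove, Fin.le_def, Fin.lt_def] at hij ⊢
  split_ifs with h <;> simp at h hij ⊢ <;> omega

lemma δ_alpha_succ_eq_castSucc {n : ℕ} (j : Fin (n + 1)) :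
    SimplexCategory.δ j.castSucc.succ ≫ alpha j.succ =
      SimplexCategory.δ j.castSucc.succ ≫ alpha j.castSucc := by
  apply hom_one_ext
  intro k
  rw [comp_alpha_eq_zero_iff, comp_alpha_eq_zero_iff, δ_apply]
  rcases j with ⟨j, hj⟩
  rcases k with ⟨k, hk⟩
  simp only [Fin.succAbove, Fin.le_def, Fin.lt_def]
  split_ifs with h <;> simp at h ⊢ <;> omega

lemma δ_succ_alpha_castSucc {n : ℕ} (i : Fin (n + 2)) (j : Fin (n + 1)) (hji : j.castSucc < i) :
    SimplexCategory.δ i.succ ≫ alpha j.castSucc = alpha j := by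
  apply hom_one_ext
  intro k
  rw [comp_alpha_eq_zero_iff, alpha_eq_zero_iff, δ_apply]
  rcases i with ⟨i, hi⟩
  rcases j with ⟨j, hj⟩
  rcases k with ⟨k, hk⟩
  simp only [Fin.succAbove, Fin.le_def, Fin.lt_def] at hji ⊢
  split_ifs with h <;> simp at h hji ⊢ <;> omega

lemma σ_castSucc_alpha {n : ℕ} (i j : Fin (n + 1)) (hij : i ≤ j) :
    SimplexCategory.σ i.castSucc ≫ alpha j = alpha j.succ := by
  apply hom_one_ext
  intro k
  rw [comp_alpha_eq_zero_iff, alpha_eq_zero_iff, σ_apply]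
  rcases i with ⟨i, hi⟩
  rcases j with ⟨j, hj⟩
  rcases k with ⟨k, hk⟩
  simp only [Fin.predAbove, Fin.le_def, Fin.lt_def] at hij ⊢
  split_ifs with h <;> simp at h hij ⊢ <;> omega

lemma σ_succ_alpha {n : ℕ} (i j : Fin (n + 1)) (hji : j ≤ i) :
    SimplexCategory.σ i.succ ≫ alpha j = alpha j.castSucc := by
  apply hom_one_ext
  intro k
  rw [comp_alpha_eq_zero_iff, alpha_eq_zero_iff, σ_apply]
  rcases i with ⟨i, hi⟩
  rcases j with ⟨j, hj⟩
  rcases k with ⟨k, hk⟩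
  simp only [Fin.predAbove, Fin.le_def, Fin.lt_def] at hji ⊢
  split_ifs with h <;> simp at h hji ⊢ <;> omega

variable {C : Type u} [Category.{v} C] {X Y : SimplicialObject C}

/-- A "path" homotopy: a family of maps `H γ : X Δ ⟶ Y Δ` indexed by simplices `γ` of `Δ[1]`,
natural in `Δ`, with prescribed values at the two constant simplices. -/
structure PathHomotopy (f g : X ⟶ Y) where
  H : ∀ (Δ : SimplexCategory) (γ : Δ ⟶ ⦋1⦌), X.obj (op Δ) ⟶ Y.obj (op Δ)
  nat : ∀ {Δ Δ' : SimplexCategory} (θ : Δ' ⟶ Δ) (γ : Δ ⟶ ⦋1⦌),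
    H Δ γ ≫ Y.map θ.op = X.map θ.op ≫ H Δ' (θ ≫ γ)
  H_zero : ∀ Δ, H Δ (SimplexCategory.const Δ ⦋1⦌ 0) = f.app (op Δ)
  H_one : ∀ Δ, H Δ (SimplexCategory.const Δ ⦋1⦌ 1) = g.app (op Δ)

namespace PathHomotopy

variable {f g : X ⟶ Y} (P : PathHomotopy f g)

lemma nat_δ {n : ℕ} (i : Fin (n + 2)) (γ : ⦋n + 1⦌ ⟶ ⦋1⦌) :
    P.H ⦋n + 1⦌ γ ≫ Y.δ i = X.δ i ≫ P.H ⦋n⦌ (SimplexCategory.δ i ≫ γ) :=
  P.nat (SimplexCategory.δ i) γ

lemma nat_σ {n : ℕ} (i : Fin (n + 1)) (γ : ⦋n⦌ ⟶ ⦋1⦌) :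
    P.H ⦋n⦌ γ ≫ Y.σ i = X.σ i ≫ P.H ⦋n + 1⦌ (SimplexCategory.σ i ≫ γ) :=
  P.nat (SimplexCategory.σ i) γ

/-- The combinatorial simplicial homotopy attached to a path homotopy. -/
def toHomotopy : SimplicialObject.Homotopy f g where
  h {n} i := X.σ i ≫ P.H ⦋n + 1⦌ (alpha i)
  h_zero_comp_δ_zero n := by
    rw [Category.assoc, P.nat_δ, δ_zero_alpha, P.H_one, ← Category.assoc]
    have := X.δ_comp_σ_self (n := n) (i := 0)
    dsimp at this
    rw [this, Category.id_comp]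
  h_last_comp_δ_last n := by
    rw [Category.assoc, P.nat_δ, δ_last_alpha, P.H_zero, ← Category.assoc]
    have := X.δ_comp_σ_succ (i := Fin.last n)
    dsimp at this
    rw [this, Category.id_comp]
  h_succ_comp_δ_castSucc_of_lt i j hij := by
    rw [Category.assoc, P.nat_δ, δ_castSucc_alpha_succ i j hij, ← Category.assoc,
      X.δ_comp_σ_of_le hij, Category.assoc]
  h_succ_comp_δ_castSucc_succ j := by
    rw [Category.assoc, Category.assoc, P.nat_δ, P.nat_δ, δ_alpha_succ_eq_castSucc,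
      ← Category.assoc, ← Category.assoc]
    have h₁ := X.δ_comp_σ_self (i := j.succ)
    have h₂ := X.δ_comp_σ_succ (i := j.castSucc)
    dsimp at h₁ h₂
    rw [h₁, h₂]
  h_castSucc_comp_δ_succ_of_lt i j hji := by
    rw [Category.assoc, P.nat_δ, δ_succ_alpha_castSucc i j hji, ← Category.assoc,
      X.δ_comp_σ_of_gt hji, Category.assoc]
  h_comp_σ_castSucc_of_le i j hij := by
    rw [Category.assoc, P.nat_σ, σ_castSucc_alpha i j hij, ← Category.assoc,
      X.σ_comp_σ hij, Category.assoc]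
  h_comp_σ_succ_of_lt i j hji := by
    rw [Category.assoc, P.nat_σ, σ_succ_alpha i j hji, ← Category.assoc,
      ← X.σ_comp_σ hji, Category.assoc]

end PathHomotopy

end Groth.Agent.Lib.Helper6.CoskHtpy
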